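import Mathlib
import Cfsg.Agent.Lib.QdRigid.Toolkit
import Cfsg.Agent.Lib.Transfer.Criteria

/-!
`p'`-elements fixing the elements of order `p` (dividing `4` for `p = 2`), and the resulting
criteria for normal `p`-complements.
-/

namespace Cfsg.Agent.Lib.SmallFusion

open Subgroup
open scoped commutatorElement

variable {G : Type*} [Group G] [Finite G] {p : ℕ} [Fact p.Prime]

/-- Elements of order dividing `p`, or `4` when `p = 2`. -/
def Small (p : ℕ) {G : Type*} [Group G] (a : G) : Prop := a ^ p = 1 ∨ (p = 2 ∧ a ^ 4 = 1)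

omit [Finite G] [Fact p.Prime] in
theorem mul_pow_four {C : Subgroup G}
    (hcen : ∀ x ∈ C, ∀ y ∈ C, ∀ z ∈ C, ⁅x, y⁆ * z = z * ⁅x, y⁆)
    (hcp : ∀ x ∈ C, ∀ y ∈ C, ⁅x, y⁆ ^ 2 = 1) {x y : G} (hx : x ∈ C) (hy : y ∈ C) :
    (x * y) ^ 4 = x ^ 4 * y ^ 4 := by
  have hc : ⁅(⟨y, hy⟩ : C), (⟨x, hx⟩ : C)⁆ ∈ Subgroup.center C :=
    Subgroup.mem_center_iff.mpr fun z => Subtype.ext (hcen y hy x hx z z.2).symm
  have h := congrArg Subtype.val (Extraspecial.mul_pow_eq (a := (⟨x, hx⟩ : C)) hc 4)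
  simp only [Subgroup.coe_pow, Subgroup.coe_mul] at h
  rw [h]
  have h0 : ((⁅(⟨y, hy⟩ : C), (⟨x, hx⟩ : C)⁆ : C) : G) ^ Nat.choose 4 2 = 1 := by
    show ⁅y, x⁆ ^ (2 * 3) = 1
    rw [pow_mul, hcp y hy x hx, one_pow]
  rw [h0, mul_one]

/-- A subgroup of small elements detecting `p'`-elements. -/
theorem exists_small_detecting (E : Subgroup G) (hE : IsPGroup p E) :
    ∃ D : Subgroup G, D ≤ E ∧ (∀ d ∈ D, Small p d) ∧
      Subgroup.normalizer (E : Set G) ≤ Subgroup.normalizer (D : Set G) ∧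
      ∀ a ∈ Subgroup.normalizer (E : Set G), (orderOf a).Coprime p →
        (∀ d ∈ D, a * d * a⁻¹ = d) → ∀ e ∈ E, a * e * a⁻¹ = e := by
  by_cases hp : p = 2
  swap
  · obtain ⟨D, h1, h2, -, h4, h5⟩ := QdRigid.exists_exponent_p_detecting hp E hE
    exact ⟨D, h1, fun d hd => Or.inl (h2 d hd), h4, h5⟩
  subst hp
  obtain ⟨C₀, hC⟩ := Critical.exists_critical hE
  haveI := hC.char
  set C := C₀.map E.subtype with hCdef
  have hCE : C ≤ E := Subgroup.map_subtype_le _
  have hcen : ∀ x ∈ C, ∀ y ∈ C, ∀ z ∈ C, ⁅x, y⁆ * z = z * ⁅x, y⁆ := by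
    rintro _ ⟨x, hx, rfl⟩ _ ⟨y, hy, rfl⟩ _ ⟨z, hz, rfl⟩
    have h1 := (hC.comm_le (commutator_mem_commutator hx (mem_top y))).2
    have h2 := congrArg E.subtype (Subgroup.mem_centralizer_iff.mp h1 z hz)
    rw [map_mul, map_mul, map_commutatorElement] at h2
    exact h2.symm
  have hpow : ∀ x ∈ C, ∀ y ∈ C, x ^ 2 * y = y * x ^ 2 := by
    rintro _ ⟨x, hx, rfl⟩ _ ⟨y, hy, rfl⟩
    have h2 := congrArg E.subtype (Subgroup.mem_centralizer_iff.mp (hC.pow_mem x hx).2 y hy)
    simpa using h2.symm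
  have hcp := QdRigid.commutator_pow_eq_one_of_central hcen hpow
  let D : Subgroup G :=
    { carrier := {c | c ∈ C ∧ c ^ 4 = 1}
      one_mem' := ⟨C.one_mem, one_pow _⟩
      mul_mem' := fun {x y} hx hy => ⟨C.mul_mem hx.1 hy.1, by
        rw [mul_pow_four hcen hcp hx.1 hy.1, hx.2, hy.2, one_mul]⟩
      inv_mem' := fun {x} hx => ⟨C.inv_mem hx.1, by rw [inv_pow, hx.2, inv_one]⟩ }
  have hnC : Subgroup.normalizer (E : Set G) ≤ Subgroup.normalizer (C : Set G) :=
    Coprime.normalizer_le_normalizer_map_of_characteristic C₀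
  refine ⟨D, fun c hc => hCE hc.1, fun c hc => Or.inr ⟨rfl, hc.2⟩, ?_, ?_⟩
  · intro g hg
    rw [Subgroup.mem_normalizer_iff]
    intro c
    show (c ∈ C ∧ c ^ 4 = 1) ↔ (g * c * g⁻¹ ∈ C ∧ (g * c * g⁻¹) ^ 4 = 1)
    rw [Subgroup.mem_normalizer_iff.mp (hnC hg) c, conj_pow]
    constructor
    · rintro ⟨h1, h2⟩; exact ⟨h1, by rw [h2]; group⟩
    · rintro ⟨h1, h2⟩
      refine ⟨h1, ?_⟩
      rwa [mul_inv_eq_one, mul_eq_left] at h2
  intro a ha hco hfix
  have haC : ∀ c ∈ C, a * c * a⁻¹ = c := by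
    suffices h : ∀ k : ℕ, ∀ c ∈ C, c ^ 2 ^ k = 1 → a * c * a⁻¹ = c by
      intro c hc
      obtain ⟨k, hk⟩ := (hE.to_le hCE) ⟨c, hc⟩
      exact h k c hc (congrArg Subtype.val hk)
    intro k
    induction k with
    | zero =>
      intro c _ h
      rw [pow_zero, pow_one] at h
      simp [h]
    | succ k ih =>
      intro c hc h
      have hac : a * c * a⁻¹ ∈ C := (Subgroup.mem_normalizer_iff.mp (hnC ha) c).mp hc
      set e := c⁻¹ * (a * c * a⁻¹) with he
      have heC : e ∈ C := C.mul_mem (C.inv_mem hc) hac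
      have hc4 : a * c ^ 4 * a⁻¹ = c ^ 4 := by
        refine ih _ (C.pow_mem hc 4) ?_
        rw [← pow_mul, show 4 * 2 ^ k = 2 ^ (k + 1) * 2 by ring, pow_mul, h, one_pow]
      have he4 : e ^ 4 = 1 := by
        rw [he, mul_pow_four hcen hcp (C.inv_mem hc) hac, conj_pow, hc4, inv_pow, inv_mul_cancel]
      have hn := QdRigid.conj_pow_of_eq_mul (show a * c * a⁻¹ = c * e by rw [he]; group)
        (hfix e ⟨heC, he4⟩) (orderOf a)
      rw [pow_orderOf_eq_one, one_mul, inv_one, mul_one, left_eq_mul] at hn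
      have h42 : (orderOf a).Coprime 4 := hco.pow_right 2
      have he1 : e = 1 := orderOf_eq_one_iff.mp (Nat.eq_one_of_dvd_coprimes h42
        (orderOf_dvd_of_pow_eq_one hn) (orderOf_dvd_of_pow_eq_one he4))
      have := he.symm.trans he1
      rw [inv_mul_eq_one] at this
      exact this.symm
  have hle : Subgroup.zpowers a ≤ Subgroup.centralizer (E : Set G) := by
    refine Critical.le_centralizer_of_le_centralizer_critical hCE ?_ ?_ ?_ ?_ ?_
    · rw [Subgroup.commutator_comm]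
      refine Coprime.commutator_le_of_le_normalizer ?_
      exact Subgroup.le_normalizer.trans hnC
    · intro x hx
      refine ⟨⟨x, hx.1⟩, hC.centralizer_le (Subgroup.mem_centralizer_iff.mpr fun z hz =>
        Subtype.ext (Subgroup.mem_centralizer_iff.mp hx.2 (z : G) ⟨z, hz, rfl⟩)), rfl⟩
    · exact Subgroup.zpowers_le.mpr ha
    · rw [Nat.card_zpowers]
      obtain ⟨n, hn⟩ := IsPGroup.iff_card.mp hE
      rw [hn]
      exact hco.pow_right n
    · refine Subgroup.zpowers_le.mpr (Subgroup.mem_centralizer_iff.mpr fun c hc => ?_)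
      have := haC c hc
      rw [mul_inv_eq_iff_eq_mul] at this
      exact this.symm
  intro e he
  have := Subgroup.mem_centralizer_iff.mp (hle (Subgroup.mem_zpowers a)) e he
  rw [← this, mul_inv_cancel_right]

/-- A `p'`-element stabilising a series on the small elements centralises a `p`-group. -/
theorem centralizes_of_series (E : Subgroup G) (hE : IsPGroup p E) {a : G}
    (ha : a ∈ Subgroup.normalizer (E : Set G)) (hco : (orderOf a).Coprime p)
    (S : ℕ → Subgroup G) (hS0 : S 0 = ⊥) (n : ℕ) (htop : ∀ d ∈ E, Small p d → d ∈ S n)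
    (hstep : ∀ i, ∀ d ∈ E, Small p d → d ∈ S (i + 1) → a * d * a⁻¹ * d⁻¹ ∈ S i) :
    a ∈ Subgroup.centralizer (E : Set G) := by
  obtain ⟨D, hDE, hDs, hDn, hdet⟩ := exists_small_detecting E hE
  have key : ∀ i, ∀ d ∈ D, d ∈ S i → a * d * a⁻¹ = d := by
    intro i
    induction i with
    | zero =>
      intro d _ hd
      rw [hS0, Subgroup.mem_bot] at hd
      simp [hd]
    | succ i ih =>
      intro d hd hdS
      by_cases hmono : ∀ e ∈ D ⊓ S (i + 1), a * e * a⁻¹ = e
      · exact hmono d (Subgroup.mem_inf.mpr ⟨hd, hdS⟩)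
      exfalso
      apply hmono
      intro e he
      obtain ⟨heD, heS⟩ := Subgroup.mem_inf.mp he
      set m := a * e * a⁻¹ * e⁻¹ with hm
      have hmD : m ∈ D :=
        D.mul_mem ((Subgroup.mem_normalizer_iff.mp (hDn ha) e).mp heD) (D.inv_mem heD)
      have hmfix : a * m * a⁻¹ = m := ih m hmD (hstep i e (hDE heD) (hDs e heD) heS)
      have h1 : a * e⁻¹ * a⁻¹ = e⁻¹ * m⁻¹ := by rw [hm]; group
      have h2 := QdRigid.conj_pow_of_eq_mul h1
        (by rw [show a * m⁻¹ * a⁻¹ = (a * m * a⁻¹)⁻¹ by group, hmfix]) (orderOf a)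
      rw [pow_orderOf_eq_one, one_mul, inv_one, mul_one, left_eq_mul, inv_pow, inv_eq_one] at h2
      obtain ⟨k, hk⟩ := (hE.to_le hDE) ⟨m, hmD⟩
      have hm1 : m = 1 := orderOf_eq_one_iff.mp (Nat.eq_one_of_dvd_coprimes (hco.pow_right k)
        (orderOf_dvd_of_pow_eq_one h2) (orderOf_dvd_of_pow_eq_one (congrArg Subtype.val hk)))
      rw [hm, mul_inv_eq_one] at hm1
      exact hm1
  have hfix := hdet a ha hco fun d hd => key n d hd (htop d (hDE hd) (hDs d hd))
  refine Subgroup.mem_centralizer_iff.mpr fun e he => ?_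
  exact (mul_inv_eq_iff_eq_mul.mp (hfix e he)).symm

theorem hasNormalPComplement_of_small_le_upperCentralSeries (n : ℕ)
    (h : ∀ a : G, Small p a → a ∈ Subgroup.upperCentralSeries G n) :
    Cfsg.HasNormalPComplement p G := by
  rw [Transfer.hasNormalPComplement_iff_locallyPTrivial]
  intro Q hQ g hg hco
  refine centralizes_of_series Q hQ hg hco (Subgroup.upperCentralSeries G)
    (Subgroup.upperCentralSeries_zero G) n (fun d _ hd => h d hd) fun i d _ _ hd => ?_
  have h1 := (Subgroup.mem_upperCentralSeries_succ_iff).mp hd g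
  have h2 := (Subgroup.upperCentralSeries G i).inv_mem h1
  rwa [commutatorElement_inv, commutatorElement_def] at h2

theorem hasNormalPComplement_of_small_fusion (P : Sylow p G)
    (h : ∀ a ∈ (P : Subgroup G), Small p a → ∀ g : G, g * a * g⁻¹ ∈ (P : Subgroup G) →
      ∃ x ∈ (P : Subgroup G), g * a * g⁻¹ = x * a * x⁻¹) :
    Cfsg.HasNormalPComplement p G := by
  rw [Transfer.hasNormalPComplement_iff_locallyPTrivial]
  intro Q₀ hQ₀ g₀ hg₀ hco₀
  obtain ⟨R, hR⟩ := hQ₀.exists_le_sylow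
  obtain ⟨u, hu⟩ := MulAction.exists_smul_eq G R P
  set Q := Q₀.map (MulAut.conj u).toMonoidHom with hQdef
  set g := u * g₀ * u⁻¹ with hgdef
  have hQP : Q ≤ (P : Subgroup G) := by
    rw [← hu]
    exact Subgroup.map_mono hR
  have hmemQ : ∀ q : G, u * q * u⁻¹ ∈ Q ↔ q ∈ Q₀ := fun q =>
    Subgroup.mem_map_iff_mem (f := (MulAut.conj u).toMonoidHom) (MulAut.conj u).injective
  have hg : g ∈ Subgroup.normalizer (Q : Set G) := by
    rw [Subgroup.mem_normalizer_iff]
    intro q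
    have e1 : q = u * (u⁻¹ * q * u) * u⁻¹ := by group
    have e2 : g * q * g⁻¹ = u * (g₀ * (u⁻¹ * q * u) * g₀⁻¹) * u⁻¹ := by rw [hgdef]; group
    rw [e2, hmemQ]
    conv_lhs => rw [e1, hmemQ]
    exact Subgroup.mem_normalizer_iff.mp hg₀ _
  have hco : (orderOf g).Coprime p := by
    have : orderOf g = orderOf g₀ := orderOf_injective (MulAut.conj u).toMonoidHom
      (MulAut.conj u).injective g₀
    rwa [this]
  haveI := P.2.isNilpotent
  obtain ⟨n, hn⟩ := Group.IsNilpotent.nilpotent (G := (P : Subgroup G))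
  have hcent : g ∈ Subgroup.centralizer (Q : Set G) := by
    refine centralizes_of_series Q (hQ₀.map _) hg hco
      (fun i => (Subgroup.upperCentralSeries (P : Subgroup G) i).map (P : Subgroup G).subtype)
      ?_ n ?_ ?_
    · simp
    · intro d hd _
      exact ⟨⟨d, hQP hd⟩, by rw [hn]; exact Subgroup.mem_top _, rfl⟩
    · intro i d hd hds hdS
      obtain ⟨x, hx, hxe⟩ := h d (hQP hd) hds g
        (hQP ((Subgroup.mem_normalizer_iff.mp hg d).mp hd))
      obtain ⟨d', hd', rfl⟩ := hdS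
      have h1 := (Subgroup.upperCentralSeries (P : Subgroup G) i).inv_mem
        ((Subgroup.mem_upperCentralSeries_succ_iff).mp hd' ⟨x, hx⟩)
      refine ⟨_, h1, ?_⟩
      rw [show g * (P : Subgroup G).subtype d' * g⁻¹ = x * (P : Subgroup G).subtype d' * x⁻¹ from hxe,
        commutatorElement_inv, commutatorElement_def]
      simp
  refine Subgroup.mem_centralizer_iff.mpr fun q hq => ?_
  have h2 := Subgroup.mem_centralizer_iff.mp hcent _ ((hmemQ q).mpr hq)
  rw [hgdef] at h2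
  have h3 : u * (q * g₀) * u⁻¹ = u * (g₀ * q) * u⁻¹ := by
    calc u * (q * g₀) * u⁻¹ = (u * q * u⁻¹) * (u * g₀ * u⁻¹) := by group
      _ = (u * g₀ * u⁻¹) * (u * q * u⁻¹) := h2
      _ = u * (g₀ * q) * u⁻¹ := by group
  exact mul_left_cancel (mul_right_cancel h3)

end Cfsg.Agent.Lib.SmallFusion
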